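import Cfsg.Agent.H630.TwoB.Div
import Cfsg.Agent.H692.TwoB.Orb
import Cfsg.Agent.H658.TwoB.Cent
import Cfsg.Agent.MonsterU.AmalPerf

/-!
# Degrees of characters of the centralizer of a type 2 element of the chart (helper630, DIV11 of row 2.B, S2491/S2492)

`div11` : `h : Chart Q z eta pi`, `u ∈ Q` with `eta u` of type 2, `χ` a character of `C(u)` with `χ(u) = -χ(1)`:
then `2^11 ∣ χ(1)`.
-/

set_option autoImplicit false

namespace Cfsg.Agent.H630.TwoB.DivChart

open Cfsg Module
open Cfsg.Agent.MonsterU.Ch (Chart)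
open Cfsg.Agent.MonsterU.Lam2 (L2 cl smul_cl mk_smul IsType bf qf qf_add bf_add_left bf_add_right bf_comm bf_zero_left
  bf_zero_right bf_nondeg bf_smul1 bf_self qf_smul1 qf_zero card_L2)
open Cfsg.Agent.LThreeMB (bL bL_apply)
open Cfsg.Agent.H630.TwoB.Div (Dat stab mem_stab)
open Cfsg.Agent.Characters.Core
open Cfsg.Spor (Co1)
open Cfsg.Agent.SporadicA.Co1Simple
open Cfsg.Agent.MonsterU.Fused

/-! ### `Co1` -/

/-- the stabilizer of a vector of type 2 is `Co2` -/
theorem card_stab {x : L2} (hx : IsType 2 x) : Nat.card (MulAction.stabilizer Co1 x) = 42305421312000 := by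
  obtain ⟨v, hv, rfl⟩ := hx
  rw [show (16 : ℤ) * 2 = 32 by norm_num] at hv
  have hcard : Nat.card (MulAction.stabilizer Co0 v) = 42305421312000 := (Cfsg.Agent.S0402.result v hv).2
  let f : MulAction.stabilizer Co0 v →* Co1 :=
    (QuotientGroup.mk' (Subgroup.center Co0)).comp (MulAction.stabilizer Co0 v).subtype
  have hf : ∀ g, f g = QuotientGroup.mk (g : Co0) := fun g => rfl
  have hfx : ∀ g, f g • cl v = cl v := by
    intro g
    rw [hf, mk_smul, smul_cl]
    exact congrArg cl (MulAction.mem_stabilizer_iff.1 g.2)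
  have hsurj : ∀ s : Co1, s • cl v = cl v → ∃ g, f g = s := by
    intro s hs
    obtain ⟨t, rfl⟩ := QuotientGroup.mk_surjective s
    rw [mk_smul, smul_cl] at hs
    rcases eq_or_neg (by rw [Cfsg.Agent.Leech.FrameAux.co0_sqNorm, hv]) hv hs with h | h
    · exact ⟨⟨t, h⟩, rfl⟩
    · refine ⟨⟨t * Cfsg.Agent.SporadicA.Co0Basic.negCo0, ?_⟩, ?_⟩
      · rw [MulAction.mem_stabilizer_iff, mul_smul]
        have : Cfsg.Agent.SporadicA.Co0Basic.negCo0 • v = -v := rfl
        rw [this, Cfsg.Agent.MonsterU.SmallComm.smul_neg', h, neg_neg]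
      · rw [hf]
        refine (QuotientGroup.eq.2 ?_)
        show (t * Cfsg.Agent.SporadicA.Co0Basic.negCo0)⁻¹ * t ∈ _
        rw [mul_inv_rev, inv_mul_cancel_right]
        apply Subgroup.inv_mem
        exact Cfsg.Agent.SporadicA.Co0Basic.negCo0_mem_center
  have hinj : Function.Injective f := by
    rw [injective_iff_map_eq_one]
    intro g hg
    rw [hf, QuotientGroup.eq_one_iff] at hg
    rcases Cfsg.Agent.SporadicA.Co0Basic.eq_one_or_neg_of_mem_center hg with h | h
    · exact Subtype.ext h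
    · exfalso
      have h1 := MulAction.mem_stabilizer_iff.1 g.2
      rw [h] at h1
      have h3 : Cfsg.Agent.SporadicA.Co0Basic.negCo0 • v = -v := rfl
      rw [h3] at h1
      have h4 : v = 0 := by
        apply Subtype.ext
        funext i
        have := congrArg (fun u : leechLattice => (u : GolayPt → ℤ) i) h1
        simp only [AddSubgroup.coe_neg, Pi.neg_apply] at this
        show (v : GolayPt → ℤ) i = 0
        omega
      rw [h4] at hv
      have : sqNorm ((0 : leechLattice) : GolayPt → ℤ) = 0 := by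
        rw [sqNorm]
        exact Finset.sum_eq_zero fun i _ => by rw [AddSubgroup.coe_zero, Pi.zero_apply]; norm_num
      rw [this] at hv
      norm_num at hv
  have hr : f.range = MulAction.stabilizer Co1 (cl v) := by
    ext s
    rw [MonoidHom.mem_range, MulAction.mem_stabilizer_iff]
    constructor
    · rintro ⟨g, rfl⟩
      exact hfx g
    · exact hsurj s
  rw [← hr, ← Nat.card_congr (MonoidHom.ofInjective hinj).toEquiv, hcard]

/-! ### linear algebra -/

theorem exists_repr (f : L2 →ₗ[ZMod 2] ZMod 2) : ∃ x, ∀ w, bf x w = f w := by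
  have hinj : Function.Injective bL := by
    rw [← LinearMap.ker_eq_bot, LinearMap.ker_eq_bot']
    intro v hv
    exact bf_nondeg fun w => by rw [← bL_apply, hv]; rfl
  have hfin : Finite L2 := Nat.finite_of_card_ne_zero (by rw [card_L2]; norm_num)
  have : Module.Finite (ZMod 2) L2 := Module.Finite.of_finite
  have hsurj : Function.Surjective bL :=
    (LinearMap.injective_iff_surjective_of_finrank_eq_finrank
      (Subspace.dual_finrank_eq (K := ZMod 2) (V := L2)).symm).1 hinj
  obtain ⟨v, hv⟩ := hsurj f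
  exact ⟨v, fun w => by rw [← hv, bL_apply]⟩

/-- functionals on a hyperplane -/
theorem exists_of_perp {v : L2} (g : L2 → ZMod 2)
    (hg : ∀ a b, bf v a = 0 → bf v b = 0 → g (a + b) = g a + g b) :
    ∃ x, ∀ w, bf v w = 0 → bf x w = g w := by
  let W : Submodule (ZMod 2) L2 := LinearMap.ker (bL v)
  have hW : ∀ w, w ∈ W ↔ bf v w = 0 := fun w => by rw [LinearMap.mem_ker, bL_apply]
  let g0 : W →+ ZMod 2 := AddMonoidHom.mk' (fun w => g w) (by
    intro a b
    exact hg a b ((hW _).1 a.2) ((hW _).1 b.2))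
  obtain ⟨g1, h1⟩ := LinearMap.exists_extend (AddMonoidHom.toZModLinearMap 2 g0)
  obtain ⟨x, hx⟩ := exists_repr g1
  refine ⟨x, fun w hw => ?_⟩
  rw [hx]
  have h2 := LinearMap.congr_fun h1 ⟨w, (hW w).2 hw⟩
  exact h2

/-! ### the Sylow subgroup -/

section

variable {G : Type} [Group G] {Q : Subgroup G} {z : G} {eta : G → L2}
  {pi : Subgroup.centralizer ({z} : Set G) →* Co1}

/-- the common centralizer as a subgroup of `C(z)` -/
def HC (z u : G) : Subgroup (Subgroup.centralizer ({z} : Set G)) where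
  carrier := {c | (c : G) * u = u * c}
  mul_mem' := by
    intro a b ha hb
    show (a : G) * b * u = u * (a * b)
    have ha' : (a : G) * u = u * a := ha
    have hb' : (b : G) * u = u * b := hb
    rw [mul_assoc, hb', ← mul_assoc, ha', mul_assoc]
  one_mem' := by
    show (1 : G) * u = u * 1
    rw [one_mul, mul_one]
  inv_mem' := by
    intro a ha
    have ha' : (a : G) * u = u * a := ha
    show (a : G)⁻¹ * u = u * (a : G)⁻¹
    rw [inv_mul_eq_iff_eq_mul, ← mul_assoc, ha', mul_inv_cancel_right]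

theorem mem_HC {z u : G} {c : Subgroup.centralizer ({z} : Set G)} : c ∈ HC z u ↔ (c : G) * u = u * c := Iff.rfl

/-- the elements of `Q` commuting with `u` -/
theorem card_fix (h : Chart Q z eta pi) {v : L2} (hv : v ≠ 0) : Nat.card {x : Q // bf v (eta x) = 0} = 2 ^ 24 := by
  have hfin := h.fin
  let κ : Q →* Multiplicative (ZMod 2) := MonoidHom.mk' (fun x => Multiplicative.ofAdd (bf v (eta x))) (by
    intro a b
    rw [Subgroup.coe_mul, h.eta_mul _ a.2 _ b.2, bf_add_right, ofAdd_add])
  have hκ : Function.Surjective κ := by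
    intro a
    obtain ⟨y, hy⟩ := Cfsg.Agent.MonsterU.AmalPerf.exists_bf_one hv
    rcases (by decide : ∀ c : ZMod 2, c = 0 ∨ c = 1) (Multiplicative.toAdd a) with h0 | h0
    · refine ⟨1, ?_⟩
      rw [map_one]
      exact (Multiplicative.toAdd.injective (by rw [h0]; rfl)).symm
    · obtain ⟨x, hx, e⟩ := h.eta_surj y
      refine ⟨⟨x, hx⟩, ?_⟩
      apply Multiplicative.toAdd.injective
      show bf v (eta x) = _
      rw [e, hy, h0]
  have h1 := Subgroup.card_eq_card_quotient_mul_card_subgroup κ.ker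
  rw [Nat.card_congr (QuotientGroup.quotientKerEquivOfSurjective κ hκ).toEquiv, h.card_Q,
    Nat.card_congr Multiplicative.toAdd, Nat.card_zmod] at h1
  have h2 : Nat.card κ.ker = Nat.card {x : Q // bf v (eta x) = 0} := by
    apply Nat.card_congr
    apply Equiv.subtypeEquivRight
    intro x
    rw [MonoidHom.mem_ker]
    constructor
    · intro h; exact congrArg Multiplicative.toAdd h
    · intro h; exact Multiplicative.toAdd.injective h
  rw [← h2]
  omega

/-- the map to `Co1` on the common centralizer -/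
noncomputable def rho (u : G) (pi : Subgroup.centralizer ({z} : Set G) →* Co1) : HC z u →* Co1 :=
  pi.comp (HC z u).subtype

theorem rho_apply {u : G} (c : HC z u) : rho u pi c = pi c := rfl

theorem type_ne {x : L2} (hx : IsType 2 x) : x ≠ 0 := by
  rintro rfl
  exact Cfsg.Agent.MonsterU.InvPair.not_zero_two hx

/-- the kernel -/
noncomputable def kerEquiv (h : Chart Q z eta pi) {u : G} (hu : u ∈ Q) (P : Subgroup (HC z u))
    (hP : (rho u pi).ker ≤ P) : ((rho u pi).comp P.subtype).ker ≃ {x : Q // bf (eta u) (eta x) = 0} where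
  toFun r := ⟨⟨(((r : P) : HC z u) : Subgroup.centralizer ({z} : Set G)), (h.pi_eq_one _).1 r.2⟩, by
    exact (h.comm_iff hu ((h.pi_eq_one _).1 r.2)).1 (mem_HC.1 ((r : P) : HC z u).2).symm⟩
  invFun x := ⟨⟨⟨⟨(x : Q), Subgroup.mem_centralizer_singleton_iff.2 (h.large.comm_z _ (x : Q).2)⟩,
    mem_HC.2 ((h.comm_iff hu (x : Q).2).2 x.2).symm⟩, hP ((h.pi_eq_one _).2 (x : Q).2)⟩,
      (h.pi_eq_one _).2 (x : Q).2⟩
  left_inv r := rfl
  right_inv x := rfl

theorem card_HC [Finite G] (h : Chart Q z eta pi) {u : G} (hu : u ∈ Q) (hv : IsType 2 (eta u)) :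
    Nat.card (HC z u) = 2 ^ 42 * 161382375 := by
  have h1 := Subgroup.card_eq_card_quotient_mul_card_subgroup (rho u pi).ker
  have h2 : Nat.card (rho u pi).ker = 2 ^ 24 := by
    have e : Nat.card ((rho u pi).comp (⊤ : Subgroup (HC z u)).subtype).ker = Nat.card (rho u pi).ker := by
      refine Nat.card_congr ⟨fun r => ⟨(r : (⊤ : Subgroup (HC z u))), r.2⟩, fun r => ⟨⟨r, trivial⟩, r.2⟩, fun _ => rfl,
        fun _ => rfl⟩
    rw [← e, Nat.card_congr (kerEquiv h hu ⊤ le_top), card_fix h (type_ne hv)]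
  have h3 : (rho u pi).range = MulAction.stabilizer Co1 (eta u) := by
    ext s
    rw [MonoidHom.mem_range, MulAction.mem_stabilizer_iff]
    constructor
    · rintro ⟨c, rfl⟩
      have hc : ((c : Subgroup.centralizer ({z} : Set G)) : G) * u = u * (c : Subgroup.centralizer ({z} : Set G)) := c.2
      rw [rho_apply, ← h.eta_conj _ u hu, hc, mul_inv_cancel_right]
    · intro hs
      obtain ⟨c, hc, e⟩ := Cfsg.Agent.H658.TwoB.exists_lift h hu (type_ne hv) hs
      exact ⟨⟨c, e⟩, hc⟩
  rw [Nat.card_congr (QuotientGroup.quotientKerEquivRange (rho u pi)).toEquiv, h2, h3, card_stab hv] at h1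
  rw [h1]
  norm_num

theorem pi_fix (h : Chart Q z eta pi) {u : G} (hu : u ∈ Q) (c : HC z u) :
    pi (c : Subgroup.centralizer ({z} : Set G)) • eta u = eta u := by
  have hc : ((c : Subgroup.centralizer ({z} : Set G)) : G) * u = u * (c : Subgroup.centralizer ({z} : Set G)) := c.2
  rw [← h.eta_conj _ u hu, hc, mul_inv_cancel_right]

set_option maxHeartbeats 1600000 in
/-- **The data of a Sylow subgroup.** -/
theorem exists_dat [Finite G] (h : Chart Q z eta pi) {u : G} (hu : u ∈ Q) (hv : IsType 2 (eta u)) :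
    ∃ (P : Subgroup (HC z u)) (R : Subgroup P) (_ : R.Normal) (z' u' : P),
      (((u' : HC z u) : Subgroup.centralizer ({z} : Set G)) : G) = u ∧ Dat R z' u' := by
  have hfin := h.fin
  have hfact : Fact (Nat.Prime 2) := ⟨Nat.prime_two⟩
  have hvne := type_ne hv
  have hH := card_HC h hu hv
  have hker : IsPGroup 2 (rho u pi).ker := by
    have e : Nat.card (rho u pi).ker = 2 ^ 24 := by
      have e : Nat.card ((rho u pi).comp (⊤ : Subgroup (HC z u)).subtype).ker = Nat.card (rho u pi).ker := by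
        refine Nat.card_congr ⟨fun r => ⟨(r : (⊤ : Subgroup (HC z u))), r.2⟩, fun r => ⟨⟨r, trivial⟩, r.2⟩,
          fun _ => rfl, fun _ => rfl⟩
      rw [← e, Nat.card_congr (kerEquiv h hu ⊤ le_top), card_fix h hvne]
    exact IsPGroup.of_card e
  obtain ⟨P, hP⟩ := hker.exists_le_sylow
  have hcP : Nat.card P = 2 ^ 42 := by
    rw [P.card_eq_multiplicity, hH]
    congr 1
    rw [Nat.factorization_mul (by norm_num) (by norm_num), Finsupp.add_apply, Nat.Prime.factorization_pow
      Nat.prime_two, Finsupp.single_eq_same, Nat.factorization_eq_zero_of_not_dvd (by norm_num)]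
  let σ : P →* Co1 := (rho u pi).comp (P : Subgroup (HC z u)).subtype
  have hσ : ∀ c : P, σ c = pi (c : HC z u) := fun c => rfl
  have hzu : z * u = u * z := (h.large.comm_z u hu).symm
  let z0 : HC z u := ⟨⟨z, Subgroup.mem_centralizer_singleton_iff.2 rfl⟩, hzu⟩
  let u0 : HC z u := ⟨⟨u, Subgroup.mem_centralizer_singleton_iff.2 hzu.symm⟩, rfl⟩
  have hz0 : z0 ∈ (P : Subgroup (HC z u)) := hP ((h.pi_eq_one _).2 h.large.z_mem)
  have hu0 : u0 ∈ (P : Subgroup (HC z u)) := hP ((h.pi_eq_one _).2 hu)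
  -- the coercion
  let j : P → G := fun c => ((c : HC z u) : Subgroup.centralizer ({z} : Set G))
  have hj : Function.Injective j := fun a b hab => Subtype.ext (Subtype.ext (Subtype.ext hab))
  have jm : ∀ a b, j (a * b) = j a * j b := fun _ _ => rfl
  have jQ : ∀ a : P, a ∈ σ.ker ↔ j a ∈ Q := fun a => h.pi_eq_one _
  have ju : ∀ a : P, j a * u = u * j a := fun a => a.1.2
  have jz : ∀ a : P, j a * z = z * j a := fun a => Subgroup.mem_centralizer_singleton_iff.1 a.1.1.2
  have jinv : ∀ a, j a⁻¹ = (j a)⁻¹ := fun _ => rfl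
  -- lifts of elements of the hyperplane
  have lift : ∀ w : L2, bf (eta u) w = 0 → ∃ r : P, r ∈ σ.ker ∧ eta (j r) = w := by
    intro w hw
    obtain ⟨q, hq, rfl⟩ := h.eta_surj w
    have e : u * q = q * u := (h.comm_iff hu hq).2 hw
    exact ⟨⟨⟨⟨q, Subgroup.mem_centralizer_singleton_iff.2 (h.large.comm_z q hq)⟩, e.symm⟩,
      hP ((h.pi_eq_one _).2 hq)⟩, (h.pi_eq_one _).2 hq, rfl⟩
  have perp : ∀ r : P, r ∈ σ.ker → bf (eta u) (eta (j r)) = 0 := fun r hr =>
    (h.comm_iff hu ((jQ r).1 hr)).1 (ju r).symm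
  have hyper : ∀ d : L2, (∀ w, bf (eta u) w = 0 → bf d w = 0) → d = 0 ∨ d = eta u := by
    intro d hd
    exact Cfsg.Agent.H658.TwoB.perp_of_hyper bL (fun u hu => bf_nondeg fun v => hu v) hvne hd
  refine ⟨P, σ.ker, inferInstance, ⟨z0, hz0⟩, ⟨u0, hu0⟩, rfl, ?_⟩
  refine
    { zR := (jQ _).2 h.large.z_mem
      uR := (jQ _).2 hu
      zc := fun g => hj (jz g).symm
      uc := fun g => hj (ju g).symm
      z2 := hj h.large.z_sq
      u2 := hj ((h.sq_one hu).2 (Cfsg.Agent.H658.TwoB.qf_two hv))
      z1 := fun e => h.large.z_ne (congrArg j e)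
      u1 := fun e => hvne (by rw [show u = 1 from congrArg j e, h.eta_one])
      uz := fun e => hvne (by rw [show u = z from congrArg j e, h.eta_z])
      comm := ?_
      cen := ?_
      card := ?_
      st := ?_ }
  · intro a ha b hb
    rcases h.large.comm _ ((jQ a).1 ha) _ ((jQ b).1 hb) with e | e
    · exact Or.inl (hj e)
    · right
      apply hj
      show j a * j b = z * (j b * j a)
      rw [e, mul_assoc, jz, ← mul_assoc, jz, mul_assoc]
  · intro a ha hab
    have h1 : eta (j a) = 0 ∨ eta (j a) = eta u := by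
      apply hyper
      intro w hw
      obtain ⟨r, hr, rfl⟩ := lift w hw
      exact (h.comm_iff ((jQ a).1 ha) ((jQ r).1 hr)).1 (congrArg j (hab r hr))
    rcases h1 with h1 | h1
    · rcases (h.eta_zero _ ((jQ a).1 ha)).1 h1 with h2 | h2
      · exact Or.inl (hj h2)
      · exact Or.inr (Or.inl (hj h2))
    · rcases (h.eta_eq ((jQ a).1 ha) hu).1 h1 with h2 | h2
      · exact Or.inr (Or.inr (Or.inl (hj h2)))
      · refine Or.inr (Or.inr (Or.inr (hj ?_)))
        show j a = z * u
        rw [h2, hzu]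
  · rw [Nat.card_congr (kerEquiv h hu P hP), card_fix h hvne]
  · intro f fz fu
    have hsq : ∀ r : σ.ker, f r = 1 ∨ f r = -1 := by
      intro r
      have h1 : f (r * r) = 1 := by
        rcases h.large.sq _ ((jQ r).1 r.2) with e | e
        · have : r * r = 1 := Subtype.ext (hj e)
          rw [this, map_one]
        · have : r * r = ⟨⟨z0, hz0⟩, (jQ _).2 h.large.z_mem⟩ := Subtype.ext (hj e)
          rw [this, fz]
      rw [map_mul] at h1
      have h2 : ((f r : ℂˣ) : ℂ) * (f r : ℂˣ) = 1 := by rw [← Units.val_mul, h1, Units.val_one]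
      rcases mul_self_eq_one_iff.1 h2 with h3 | h3
      · exact Or.inl (Units.ext h3)
      · exact Or.inr (Units.ext (by rw [h3, Units.val_neg, Units.val_one]))
    have hne : (1 : ℂˣ) ≠ -1 := by
      intro e
      have h2 := congrArg Units.val e
      rw [Units.val_neg, Units.val_one] at h2
      norm_num at h2
    have heta : ∀ r s : σ.ker, eta (j r) = eta (j s) → f r = f s := by
      intro r s e
      rcases (h.eta_eq ((jQ r).1 r.2) ((jQ s).1 s.2)).1 e with h1 | h1
      · have : r = s := Subtype.ext (hj h1)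
        rw [this]
      · have : r = s * ⟨⟨z0, hz0⟩, (jQ _).2 h.large.z_mem⟩ := Subtype.ext (hj h1)
        rw [this, map_mul, fz, mul_one]
    classical
    choose! lf hlf hle using lift
    let g : L2 → ZMod 2 := fun w => if hw : bf (eta u) w = 0 then (if f ⟨lf w, hlf w hw⟩ = 1 then 0 else 1) else 0
    have hg : ∀ r : σ.ker, g (eta (j r)) = if f r = 1 then 0 else 1 := by
      intro r
      show (if hw : bf (eta u) (eta (j r)) = 0 then (if f ⟨lf (eta (j r)), hlf _ hw⟩ = 1 then (0 : ZMod 2) else 1)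
        else 0) = _
      rw [dif_pos (perp r r.2), heta ⟨lf (eta (j r)), hlf _ (perp r r.2)⟩ r (hle _ (perp r r.2))]
    obtain ⟨x, hx⟩ := exists_of_perp (v := eta u) g (by
      intro a b ha hb
      have ea : a = eta (j (⟨lf a, hlf a ha⟩ : σ.ker)) := (hle a ha).symm
      have eb : b = eta (j (⟨lf b, hlf b hb⟩ : σ.ker)) := (hle b hb).symm
      have h1 : a + b = eta (j ((⟨lf a, hlf a ha⟩ * ⟨lf b, hlf b hb⟩ : σ.ker) : P)) := by
        conv_lhs => rw [ea, eb]
        exact (h.eta_mul _ ((jQ _).1 (hlf a ha)) _ ((jQ _).1 (hlf b hb))).symm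
      rw [h1, hg, map_mul]
      conv_rhs => rw [ea, eb, hg, hg]
      rcases hsq ⟨lf a, hlf a ha⟩ with e1 | e1 <;> rcases hsq ⟨lf b, hlf b hb⟩ with e2 | e2 <;> rw [e1, e2]
      · simp
      · simp [hne.symm]
      · simp [hne.symm]
      · simp only [mul_neg, mul_one, neg_neg, if_true, hne.symm, if_false]
        exact (CharTwo.add_self_eq_zero (1 : ZMod 2)).symm)
    have hxr : ∀ r : σ.ker, bf x (eta (j r)) = if f r = 1 then 0 else 1 := by
      intro r
      rw [hx _ (perp r r.2), hg]
    have hb : bf x (eta u) = 1 := by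
      have h1 := hxr ⟨⟨u0, hu0⟩, (jQ _).2 hu⟩
      rw [fu, if_neg hne.symm] at h1
      exact h1
    -- the image of the stabilizer
    let S0 : Subgroup P := stab σ.ker (fun r => (f r : ℂ))
    have hS0 : ∀ s : P, s ∈ S0 → pi (s : HC z u) • x = x ∨ pi (s : HC z u) • x = x + eta u := by
      intro s hs
      have hs' : ∀ r : σ.ker, f (MulAut.conjNormal s r) = f r := fun r => Units.ext (mem_stab.1 hs r)
      have h1 : x + pi (s : HC z u) • x = 0 ∨ x + pi (s : HC z u) • x = eta u := by
        apply hyper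
        intro w hw
        have hw' : bf (eta u) (pi ((s : HC z u) : Subgroup.centralizer ({z} : Set G))⁻¹ • w) = 0 := by
          have h2 := bf_smul1 (pi ((s : HC z u) : Subgroup.centralizer ({z} : Set G))) (eta u)
            (pi ((s : HC z u) : Subgroup.centralizer ({z} : Set G))⁻¹ • w)
          rw [← mul_smul, ← map_mul, mul_inv_cancel, map_one, one_smul, ← h.eta_conj _ u hu] at h2
          have h3 : j s * u * (j s)⁻¹ = u := by rw [ju, mul_inv_cancel_right]
          have h4 : ((((s : HC z u) : Subgroup.centralizer ({z} : Set G)) : G)) * u *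
            (((s : HC z u) : Subgroup.centralizer ({z} : Set G)) : G)⁻¹ = u := h3
          rw [h4, hw] at h2
          exact h2.symm
        have e1 := hle _ hw'
        set r : σ.ker := ⟨lf (pi ((s : HC z u) : Subgroup.centralizer ({z} : Set G))⁻¹ • w), hlf _ hw'⟩ with hr
        have e2 : eta (j (MulAut.conjNormal s r : σ.ker)) = w := by
          rw [MulAut.conjNormal_apply, jm, jm, jinv]
          have h5 := h.eta_conj ((s : HC z u) : Subgroup.centralizer ({z} : Set G)) _ ((jQ _).1 r.2)
          rw [show j (r : P) = j (lf (pi ((s : HC z u) : Subgroup.centralizer ({z} : Set G))⁻¹ • w)) from rfl] at h5 ⊢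
          rw [e1, ← mul_smul, ← map_mul, mul_inv_cancel, map_one, one_smul] at h5
          exact h5
        have e3 := hxr (MulAut.conjNormal s r)
        rw [hs', e2] at e3
        have e4 := hxr r
        rw [show eta (j (r : P)) = _ from e1] at e4
        have e5 := bf_smul1 (pi ((s : HC z u) : Subgroup.centralizer ({z} : Set G))) x
            (pi ((s : HC z u) : Subgroup.centralizer ({z} : Set G))⁻¹ • w)
        rw [← mul_smul, ← map_mul, mul_inv_cancel, map_one, one_smul, e4, ← e3] at e5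
        rw [bf_add_left, e5, ← two_mul]
        exact zero_mul _
      rcases h1 with h1 | h1
      · left
        exact (Cfsg.Agent.MonsterU.Lam2.eq_of_add_eq_zero h1).symm
      · right
        rw [← h1, ← add_assoc, Cfsg.Agent.MonsterU.Lam2.add_self, zero_add]
    have t1 : IsPGroup 2 (S0.map σ) := (P.2.to_subgroup S0).map σ
    have t2 : ∀ t ∈ S0.map σ, t • eta u = eta u := by
      intro t ht
      obtain ⟨s, hs, rfl⟩ := Subgroup.mem_map.1 ht
      exact pi_fix h hu s
    have t3 : ∀ t ∈ S0.map σ, t • x = x ∨ t • x = x + eta u := by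
      intro t ht
      obtain ⟨s, hs, rfl⟩ := Subgroup.mem_map.1 ht
      exact hS0 s hs
    have hT := Cfsg.Agent.H692.TwoB.card_le (S0.map σ) t1 hv hb t2 t3
    have hS1 : Nat.card S0 ∣ 2 ^ 31 := by
      have h1 := Subgroup.card_eq_card_quotient_mul_card_subgroup (σ.comp S0.subtype).ker
      rw [Nat.card_congr (QuotientGroup.quotientKerEquivRange (σ.comp S0.subtype)).toEquiv] at h1
      have h2 : (σ.comp S0.subtype).range = S0.map σ := by
        rw [MonoidHom.range_eq_map, ← Subgroup.map_map, ← MonoidHom.range_eq_map, Subgroup.range_subtype]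
      have h3 : Nat.card (σ.comp S0.subtype).ker ∣ 2 ^ 24 := by
        have h4 : Nat.card σ.ker = 2 ^ 24 := by
          rw [Nat.card_congr (kerEquiv h hu P hP), card_fix h hvne]
        rw [← h4]
        let k : (σ.comp S0.subtype).ker →* σ.ker :=
          (S0.subtype.comp (σ.comp S0.subtype).ker.subtype).codRestrict σ.ker fun r => r.2
        exact Subgroup.card_dvd_of_injective k (fun a b hab =>
          Subtype.ext (Subtype.ext (congrArg (Subtype.val : σ.ker → P) hab)))
      rw [h1, h2, show (2 : ℕ) ^ 31 = 2 ^ 7 * 2 ^ 24 by norm_num]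
      exact Nat.mul_dvd_mul hT.2.1 h3
    have h5 := Subgroup.card_mul_index S0
    rw [hcP] at h5
    obtain ⟨k, hk⟩ := hS1
    show 2 ^ 11 ∣ S0.index
    refine ⟨k, ?_⟩
    have h6 : 0 < Nat.card S0 := Nat.card_pos
    apply Nat.eq_of_mul_eq_mul_left h6
    rw [h5, ← mul_assoc, mul_comm (Nat.card S0) (2 ^ 11), mul_assoc, ← hk]
    norm_num

/-- **DIV11.** -/
theorem div11 [Finite G] (h : Chart Q z eta pi) {u : G} (hu : u ∈ Q) (hv : IsType 2 (eta u))
    {χ : Subgroup.centralizer ({u} : Set G) → ℂ} (hχ : IsCharacter (Subgroup.centralizer ({u} : Set G)) χ)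
    (hχu : χ ⟨u, Subgroup.mem_centralizer_singleton_iff.2 rfl⟩ = -χ 1) {n : ℕ} (hn : χ 1 = n) : 2 ^ 11 ∣ n := by
  obtain ⟨P, R, hR, z', u', hu', D⟩ := exists_dat h hu hv
  let ι : P →* Subgroup.centralizer ({u} : Set G) :=
    (((Subgroup.centralizer ({z} : Set G)).subtype.comp (HC z u).subtype).comp P.subtype).codRestrict _ fun c =>
      Subgroup.mem_centralizer_singleton_iff.2 (mem_HC.1 (c : HC z u).2)
  have h1 : IsCharacter P (fun x => χ (ι x)) := isCharacter_comp ι hχ
  refine Div.dvd_char D h1 ?_ ?_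
  · show χ (ι u') = -χ (ι 1)
    rw [map_one, ← hχu]
    congr 1
    exact Subtype.ext hu'
  · show χ (ι 1) = n
    rw [map_one, hn]

/-- **DIV11 for irreducible characters.** -/
theorem div11_irr [Finite G] (h : Chart Q z eta pi) {u : G} (hu : u ∈ Q) (hv : IsType 2 (eta u))
    {χ : Subgroup.centralizer ({u} : Set G) → ℂ} (hχ : IsIrrCharacter (Subgroup.centralizer ({u} : Set G)) χ)
    (hχu : χ ⟨u, Subgroup.mem_centralizer_singleton_iff.2 rfl⟩ ≠ χ 1) : 2 ^ 11 ∣ charDegree χ := by
  refine div11 h hu hv (isIrr_isCharacter hχ) ?_ (Div.deg_cast hχ)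
  have h2 : u * u = 1 := (h.sq_one hu).2 (Cfsg.Agent.H658.TwoB.qf_two hv)
  rcases Div.central_pm hχ (z := ⟨u, Subgroup.mem_centralizer_singleton_iff.2 rfl⟩) (fun g => Subtype.ext
    (Subgroup.mem_centralizer_singleton_iff.1 g.2).symm) (Subtype.ext h2) with h3 | h3
  · exfalso
    apply hχu
    have h4 := h3 1
    rwa [mul_one] at h4
  · have h4 := h3 1
    rwa [mul_one] at h4

end

end Cfsg.Agent.H630.TwoB.DivChart
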