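import Cfsg.Agent.Characters.Clifford
import Cfsg.Agent.Characters.Linear
import Cfsg.Agent.Blocks.Knorr
import Cfsg.Agent.CharDeep.IrrEquiv

/-!
# Degrees of characters of a group with an almost extraspecial normal subgroup (helper630, row 2.B of S2491/S2492)

* `dvd_index` : a constituent `μ` of degree one of `ψ|_R`, `R` normal: the index of the stabilizer of `μ` divides `ψ(1)`;
* `dvd_irr` : `R` normal of order `2^24`, centre `⟨z, u⟩`, commutators in `⟨z⟩`, `ψ(u) = -ψ(1)`, all stabilizers of the linear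
  characters with `z ↦ 1`, `u ↦ -1` of index divisible by `2^11`: then `2^11 ∣ ψ(1)`;
* `dvd_char` : the same for characters which are not irreducible.
-/

set_option autoImplicit false

open Cfsg Subgroup
open scoped ComplexConjugate

namespace Cfsg.Agent.H630.TwoB.Div

open Cfsg.Agent.Characters.Core Cfsg.Agent.Characters.Clifford

universe u

section gen

variable {S : Type u} [Group S]

theorem central_scalar {χ : S → ℂ} (hχ : IsIrrCharacter S χ) {z : S} (hz : ∀ g, z * g = g * z) :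
    ∃ a : ℂ, ∀ x, χ (z * x) = a * χ x := by
  obtain ⟨n, ρ, hρ, rfl⟩ := isIrrCharacter_def.1 hχ
  obtain ⟨a, ha⟩ := Cfsg.Agent.CharDeep.IrrEquiv.exists_smul_of_commute ρ hρ (ρ z) (by
    intro g
    rw [← map_mul, ← map_mul, hz])
  refine ⟨a, fun x => ?_⟩
  show LinearMap.trace ℂ _ (ρ (z * x)) = a * LinearMap.trace ℂ _ (ρ x)
  rw [map_mul, ha, smul_mul_assoc, one_mul, map_smul, smul_eq_mul]

theorem central_pm {χ : S → ℂ} (hχ : IsIrrCharacter S χ) {z : S} (hz : ∀ g, z * g = g * z) (hz2 : z * z = 1) :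
    (∀ x, χ (z * x) = χ x) ∨ ∀ x, χ (z * x) = -χ x := by
  obtain ⟨a, ha⟩ := central_scalar hχ hz
  have h0 := isIrr_apply_one_ne_zero hχ
  have h1 : χ 1 = a * (a * χ 1) := by
    rw [← ha, ← ha, mul_one, hz2]
  have h2 : a * a = 1 := by
    have h4 : (a * a - 1) * χ 1 = 0 := by linear_combination -h1
    exact sub_eq_zero.1 ((mul_eq_zero.1 h4).resolve_right h0)
  rcases mul_self_eq_one_iff.1 h2 with h | h
  · left; intro x; rw [ha, h, one_mul]
  · right; intro x; rw [ha, h, neg_one_mul]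

theorem inner_scalar {G : Type u} [Group G] [Fintype G] {f g : G → ℂ} {z : G} {a b : ℂ}
    (hf : ∀ x, f (z * x) = a * f x) (hg : ∀ x, g (z * x) = b * g x) (h : classInner f g ≠ 0) :
    a * conj b = 1 := by
  have h1 : classInner f g = a * conj b * classInner f g := by
    rw [classInner_def]
    have e1 : ∑ x : G, f x * conj (g x) = ∑ x : G, f (z * x) * conj (g (z * x)) :=
      (Fintype.sum_bijective (fun x => z * x) (Group.mulLeft_bijective z) _ _ fun x => rfl).symm
    have e2 : ∑ x : G, f (z * x) * conj (g (z * x)) = a * conj b * ∑ x : G, f x * conj (g x) := by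
      rw [Finset.mul_sum]
      refine Finset.sum_congr rfl fun x _ => ?_
      rw [hf, hg, map_mul]
      ring
    conv_lhs => rw [e1, e2]
    ring
  have h2 : (1 - a * conj b) * classInner f g = 0 := by
    rw [sub_mul, one_mul, ← h1, sub_self]
  rcases mul_eq_zero.1 h2 with h3 | h3
  · exact (sub_eq_zero.1 h3).symm
  · exact absurd h3 h

/-- commutators in the kernel: the degree is one -/
theorem lin_of [Finite S] {μ : S → ℂ} (hμ : IsIrrCharacter S μ) {z : S} (hz : ∀ g, z * g = g * z)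
    (hcomm : ∀ a b : S, a * b = b * a ∨ a * b = z * (b * a)) (hzμ : ∀ x, μ (z * x) = μ x) : μ 1 = 1 := by
  have := Fintype.ofFinite S
  obtain ⟨n, ρ, hρ, rfl⟩ := isIrrCharacter_def.1 hμ
  have h0 := isIrr_apply_one_ne_zero hμ
  have ez : ρ z = 1 := by
    obtain ⟨a, ha⟩ := Cfsg.Agent.CharDeep.IrrEquiv.exists_smul_of_commute ρ hρ (ρ z) (by
      intro g
      rw [← map_mul, ← map_mul, hz])
    have h1 : a * ρ.character 1 = ρ.character 1 := by
      have h2 := hzμ 1
      rw [mul_one] at h2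
      have h3 : ρ.character z = a * ρ.character 1 := by
        show LinearMap.trace ℂ _ (ρ z) = a * LinearMap.trace ℂ _ (ρ 1)
        rw [map_one, ha, map_smul, smul_eq_mul]
      rw [← h3, h2]
    have h3 : a = 1 := by
      have h4 : (a - 1) * ρ.character 1 = 0 := by linear_combination h1
      exact sub_eq_zero.1 ((mul_eq_zero.1 h4).resolve_right h0)
    rw [ha, h3, one_smul]
  have hab : ∀ a b : S, ρ (a * b) = ρ (b * a) := by
    intro a b
    rcases hcomm a b with h | h
    · rw [h]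
    · rw [h, map_mul, ez, one_mul]
  have hs : ∀ a : S, ∃ c : ℂ, ∀ x : S, ρ.character (a * x) = c * ρ.character x := by
    intro a
    obtain ⟨c, hc⟩ := Cfsg.Agent.CharDeep.IrrEquiv.exists_smul_of_commute ρ hρ (ρ a) (by
      intro g
      rw [← map_mul, ← map_mul, hab])
    refine ⟨c, fun x => ?_⟩
    show LinearMap.trace ℂ _ (ρ (a * x)) = c * LinearMap.trace ℂ _ (ρ x)
    rw [map_mul, hc, smul_mul_assoc, one_mul, map_smul, smul_eq_mul]
  have h1 := classInner_irr_self hμ
  rw [classInner_def] at h1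
  have h2 : ∀ a : S, ρ.character a * conj (ρ.character a) = ρ.character 1 * ρ.character 1 := by
    intro a
    rw [← isCharacter_apply_inv (isIrr_isCharacter hμ)]
    obtain ⟨c, hc⟩ := hs a
    have h3 := hc 1
    have h4 := hc a⁻¹
    rw [mul_one] at h3
    rw [mul_inv_cancel] at h4
    rw [h3]
    linear_combination (-ρ.character 1) * h4
  rw [Finset.sum_congr rfl fun a _ => h2 a, Finset.sum_const, Finset.card_univ, nsmul_eq_mul,
    ← Nat.card_eq_fintype_card, ← mul_assoc, inv_mul_cancel₀ card_ne_zero_complex, one_mul] at h1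
  obtain ⟨m, hm0, hm⟩ := isIrr_apply_one hμ
  rw [hm] at h1 ⊢
  have h5 : m * m = 1 := by exact_mod_cast h1
  have h6 : m = 1 := Nat.eq_one_of_mul_eq_one_right h5
  rw [h6, Nat.cast_one]

end gen

section index

variable {S : Type u} [Group S] (R : Subgroup S) [R.Normal]

/-- the stabilizer of a function on a normal subgroup -/
def stab (μ : R → ℂ) : Subgroup S where
  carrier := {g | ∀ r : R, μ (MulAut.conjNormal g r) = μ r}
  mul_mem' := by
    intro a b ha hb r
    rw [map_mul, MulAut.mul_apply, ha, hb]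
  one_mem' := by
    intro r
    rw [map_one]
    rfl
  inv_mem' := by
    intro a ha r
    have h := ha (MulAut.conjNormal a⁻¹ r)
    rw [← MulAut.mul_apply, ← map_mul, mul_inv_cancel, map_one, MulAut.one_apply] at h
    exact h.symm

variable {R}

theorem mem_stab {μ : R → ℂ} {g : S} : g ∈ stab R μ ↔ ∀ r : R, μ (MulAut.conjNormal g r) = μ r := Iff.rfl

theorem deg_cast {ψ : S → ℂ} (hψ : IsIrrCharacter S ψ) : ψ 1 = (charDegree ψ : ℂ) := Blocks.Knorr.charDegree_eq hψ

/-- **Clifford for a linear constituent.** -/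
theorem dvd_index [Finite S] {ψ : S → ℂ} (hψ : IsIrrCharacter S ψ) {μ : R → ℂ} (hμ : IsIrrCharacter R μ) (h1 : μ 1 = 1)
    [Fintype R] (hm : classInner (fun r : R => ψ r) μ ≠ 0) : (stab R μ).index ∣ charDegree ψ := by
  classical
  have := Fintype.ofFinite S
  have : Finite (IrrCharacter R) := finite_irr
  have := Fintype.ofFinite (IrrCharacter R)
  have hres : IsCharacter R (fun r : R => ψ r) := isCharacter_restrict R (isIrr_isCharacter hψ)
  have hcl := isIrr_isClassFunction hψ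
  let φ : S → IrrCharacter R := fun g => ⟨μ ∘ (MulAut.conjNormal g⁻¹ : MulAut R), isIrr_conjNormal hμ g⁻¹⟩
  have hφ : ∀ a b : S, a⁻¹ * b ∈ stab R μ ↔ φ a = φ b := by
    intro a b
    rw [mem_stab, Subtype.ext_iff, funext_iff]
    constructor
    · intro h r
      have h2 := h (MulAut.conjNormal b⁻¹ r)
      rw [← MulAut.mul_apply, ← map_mul, mul_assoc, mul_inv_cancel, mul_one] at h2
      exact h2
    · intro h r
      have h2 := h (MulAut.conjNormal b r)
      show μ (MulAut.conjNormal (a⁻¹ * b) r) = μ r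
      have h3 : μ (MulAut.conjNormal a⁻¹ (MulAut.conjNormal b r)) = μ (MulAut.conjNormal b⁻¹ (MulAut.conjNormal b r)) := h2
      rw [← MulAut.mul_apply, ← map_mul, ← MulAut.mul_apply, ← map_mul, inv_mul_cancel, map_one] at h3
      exact h3
  let F : S ⧸ stab R μ → IrrCharacter R := Quotient.lift φ (fun a b hab => (hφ a b).1 (QuotientGroup.leftRel_apply.1 hab))
  have hF : ∀ g : S, F (QuotientGroup.mk g) = φ g := fun g => rfl
  have hFi : Function.Injective F := by
    intro a b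
    induction a using QuotientGroup.induction_on
    induction b using QuotientGroup.induction_on
    rename_i a b
    intro hab
    rw [hF, hF] at hab
    exact QuotientGroup.eq.2 ((hφ a b).2 hab)
  have := Fintype.ofFinite (S ⧸ stab R μ)
  have h2 := congrFun (classFunction_eq_sum (isCharacter_isClassFunction hres)) 1
  rw [Finset.sum_apply] at h2
  have h3 : ∑ ν : IrrCharacter R, (classInner (fun r : R => ψ r) (ν : R → ℂ) • (ν : R → ℂ)) 1 =
      ∑ ν ∈ Finset.univ.image F, (classInner (fun r : R => ψ r) (ν : R → ℂ) • (ν : R → ℂ)) 1 := by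
    symm
    refine Finset.sum_subset (Finset.subset_univ _) fun ν _ hν => ?_
    have h4 : classInner (fun r : R => ψ r) (ν : R → ℂ) = 0 := by
      by_contra h5
      obtain ⟨g, hg⟩ := exists_conj_of_constituents R hψ hμ ν.2 hm h5
      apply hν
      refine Finset.mem_image.2 ⟨QuotientGroup.mk g⁻¹, Finset.mem_univ _, ?_⟩
      rw [hF]
      refine Subtype.ext ?_
      show μ ∘ (MulAut.conjNormal g⁻¹⁻¹ : MulAut R) = ν
      rw [inv_inv, hg]
    rw [Pi.smul_apply, h4, zero_smul]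
  have h4 : ∀ q : S ⧸ stab R μ, (classInner (fun r : R => ψ r) (F q : R → ℂ) • (F q : R → ℂ)) 1 =
      classInner (fun r : R => ψ r) μ := by
    intro q
    induction q using QuotientGroup.induction_on
    rename_i g
    rw [hF, Pi.smul_apply, smul_eq_mul]
    show classInner (fun r : R => ψ r) (μ ∘ (MulAut.conjNormal g⁻¹ : MulAut R)) * μ (MulAut.conjNormal g⁻¹ 1) = _
    rw [classInner_restrict_conjNormal hcl, map_one, h1, mul_one]
  rw [h3, Finset.sum_image (fun a _ b _ hab => hFi hab), Finset.sum_congr rfl fun q _ => h4 q, Finset.sum_const,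
    Finset.card_univ, ← Nat.card_eq_fintype_card, nsmul_eq_mul] at h2
  obtain ⟨m, hm⟩ := classInner_isNat hres (isIrr_isCharacter hμ)
  rw [hm] at h2
  refine ⟨m, ?_⟩
  have h5 : ψ 1 = ((stab R μ).index * m : ℕ) := by
    push_cast
    rw [index_eq_card]
    exact h2
  rw [deg_cast hψ] at h5
  exact_mod_cast h5

end index

section main

variable {S : Type u} [Group S] [Finite S] {R : Subgroup S} [R.Normal] {z u : S}

/-- the data -/
structure Dat (R : Subgroup S) [R.Normal] (z u : S) : Prop where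
  zR : z ∈ R
  uR : u ∈ R
  zc : ∀ g, z * g = g * z
  uc : ∀ g, u * g = g * u
  z2 : z * z = 1
  u2 : u * u = 1
  z1 : z ≠ 1
  u1 : u ≠ 1
  uz : u ≠ z
  comm : ∀ a ∈ R, ∀ b ∈ R, a * b = b * a ∨ a * b = z * (b * a)
  cen : ∀ a ∈ R, (∀ b ∈ R, a * b = b * a) → a = 1 ∨ a = z ∨ a = u ∨ a = z * u
  card : Nat.card R = 2 ^ 24
  st : ∀ f : R →* ℂˣ, f ⟨z, zR⟩ = 1 → f ⟨u, uR⟩ = -1 → 2 ^ 11 ∣ (stab R (fun r => (f r : ℂ))).index

/-- `z ↦ -1` -/
theorem dvd_minus (D : Dat R z u) {ψ : S → ℂ} (hψ : IsIrrCharacter S ψ) (hu : ∀ x, ψ (u * x) = -ψ x)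
    (hz : ∀ x, ψ (z * x) = -ψ x) : 2 ^ 11 ∣ charDegree ψ := by
  classical
  have := Fintype.ofFinite S
  have := Fintype.ofFinite R
  have hres : IsCharacter R (fun r : R => ψ r) := isCharacter_restrict R (isIrr_isCharacter hψ)
  have hcl := isIrr_isClassFunction hψ
  obtain ⟨m, hm⟩ := classInner_isNat hres hres
  rw [classInner_def, inv_mul_eq_iff_eq_mul₀ card_ne_zero_complex, D.card] at hm
  -- the central elements
  let Z4 : Finset R := {1, ⟨z, D.zR⟩, ⟨u, D.uR⟩, ⟨z * u, R.mul_mem D.zR D.uR⟩}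
  have hzu1 : z * u ≠ 1 := fun h => D.uz (by rw [← mul_left_cancel_iff (a := z), h, D.z2])
  have hzuz : z * u ≠ z := fun h => D.u1 (mul_left_cancel (by rw [h, mul_one]))
  have hzuu : z * u ≠ u := fun h => D.z1 (mul_right_cancel (by rw [h, one_mul]))
  have h4 : Z4.card = 4 := by
    have n1 : (1 : R) ≠ ⟨z, D.zR⟩ := fun h => D.z1 (congrArg Subtype.val h).symm
    have n2 : (1 : R) ≠ ⟨u, D.uR⟩ := fun h => D.u1 (congrArg Subtype.val h).symm
    have n3 : (1 : R) ≠ ⟨z * u, R.mul_mem D.zR D.uR⟩ := fun h => hzu1 (congrArg Subtype.val h).symm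
    have n4 : (⟨z, D.zR⟩ : R) ≠ ⟨u, D.uR⟩ := fun h => D.uz (congrArg Subtype.val h).symm
    have n5 : (⟨z, D.zR⟩ : R) ≠ ⟨z * u, R.mul_mem D.zR D.uR⟩ := fun h => hzuz (congrArg Subtype.val h).symm
    have n6 : (⟨u, D.uR⟩ : R) ≠ ⟨z * u, R.mul_mem D.zR D.uR⟩ := fun h => hzuu (congrArg Subtype.val h).symm
    rw [Finset.card_insert_of_notMem, Finset.card_insert_of_notMem, Finset.card_pair n6]
    · simp [n4, n5]
    · simp [n1, n2, n3]
  have hoff : ∀ r : R, r ∉ Z4 → ψ r = 0 := by
    intro r hr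
    have h5 : ¬ ∀ b ∈ R, (r : S) * b = b * r := by
      intro h6
      apply hr
      rcases D.cen r r.2 h6 with h7 | h7 | h7 | h7
      · exact Finset.mem_insert.2 (Or.inl (Subtype.ext h7))
      · exact Finset.mem_insert_of_mem (Finset.mem_insert.2 (Or.inl (Subtype.ext h7)))
      · exact Finset.mem_insert_of_mem (Finset.mem_insert_of_mem (Finset.mem_insert.2 (Or.inl (Subtype.ext h7))))
      · exact Finset.mem_insert_of_mem (Finset.mem_insert_of_mem (Finset.mem_insert_of_mem
          (Finset.mem_singleton.2 (Subtype.ext h7))))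
    push Not at h5
    obtain ⟨b, hb, h6⟩ := h5
    have h7 := (D.comm r r.2 b hb).resolve_left h6
    have h8 : b⁻¹ * (r : S) * b⁻¹⁻¹ = z * r := by
      rw [inv_inv, mul_assoc, h7, ← mul_assoc, ← D.zc, mul_assoc, ← mul_assoc b⁻¹, inv_mul_cancel, one_mul]
    have h9 := hcl (r : S) b⁻¹
    rw [h8, hz] at h9
    have h10 : (2 : ℂ) * ψ r = 0 := by linear_combination -h9
    exact (mul_eq_zero.1 h10).resolve_left two_ne_zero
  have hon : ∀ r ∈ Z4, ψ (r : S) * conj (ψ (r : S)) = ψ 1 * ψ 1 := by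
    obtain ⟨n, hn0, hn⟩ := isIrr_apply_one hψ
    have e1 : ψ z = -ψ 1 := by rw [← hz, mul_one]
    have e2 : ψ u = -ψ 1 := by rw [← hu, mul_one]
    have e3 : ψ (z * u) = ψ 1 := by rw [hz, e2, neg_neg]
    intro r hr
    simp only [Z4, Finset.mem_insert, Finset.mem_singleton] at hr
    rcases hr with rfl | rfl | rfl | rfl
    · show ψ 1 * conj (ψ 1) = _
      rw [hn, Complex.conj_natCast]
    · show ψ z * conj (ψ z) = _
      rw [e1, hn, map_neg, Complex.conj_natCast]; ring
    · show ψ u * conj (ψ u) = _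
      rw [e2, hn, map_neg, Complex.conj_natCast]; ring
    · show ψ (z * u) * conj (ψ (z * u)) = _
      rw [e3, hn, Complex.conj_natCast]
  have hsum : ∑ r : R, ψ (r : S) * conj (ψ (r : S)) = 4 * (ψ 1 * ψ 1) := by
    rw [← Finset.sum_subset (Finset.subset_univ Z4) (fun r _ hr => by rw [hoff r hr, zero_mul]),
      Finset.sum_congr rfl hon, Finset.sum_const, h4, nsmul_eq_mul]
    norm_num
  rw [hsum, deg_cast hψ] at hm
  have h5 : 4 * (charDegree ψ * charDegree ψ) = 2 ^ 24 * m := by exact_mod_cast hm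
  have h6 : (2 ^ 11) ^ 2 ∣ charDegree ψ ^ 2 := ⟨m, by
    have : (2 ^ 11) ^ 2 * m * 4 = 2 ^ 24 * m := by norm_num; ring
    rw [pow_two (charDegree ψ)]
    omega⟩
  exact (Nat.pow_dvd_pow_iff two_ne_zero).1 h6

/-- `z ↦ 1` -/
theorem dvd_plus (D : Dat R z u) {ψ : S → ℂ} (hψ : IsIrrCharacter S ψ) (hu : ∀ x, ψ (u * x) = -ψ x)
    (hz : ∀ x, ψ (z * x) = ψ x) : 2 ^ 11 ∣ charDegree ψ := by
  classical
  have := Fintype.ofFinite S
  have := Fintype.ofFinite R
  have : Finite (IrrCharacter R) := finite_irr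
  have := Fintype.ofFinite (IrrCharacter R)
  have hres : IsCharacter R (fun r : R => ψ r) := isCharacter_restrict R (isIrr_isCharacter hψ)
  obtain ⟨μ, hμ⟩ : ∃ μ : IrrCharacter R, classInner (fun r : R => ψ r) (μ : R → ℂ) ≠ 0 := by
    by_contra hno
    push Not at hno
    have h2 := congrFun (classFunction_eq_sum (isCharacter_isClassFunction hres)) 1
    rw [Finset.sum_apply, Finset.sum_eq_zero (fun μ _ => by rw [Pi.smul_apply, hno μ, zero_smul])] at h2
    exact isIrr_apply_one_ne_zero hψ h2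
  have hzc : ∀ g : R, (⟨z, D.zR⟩ : R) * g = g * ⟨z, D.zR⟩ := fun g => Subtype.ext (D.zc g)
  have huc : ∀ g : R, (⟨u, D.uR⟩ : R) * g = g * ⟨u, D.uR⟩ := fun g => Subtype.ext (D.uc g)
  have hzμ : ∀ x : R, (μ : R → ℂ) (⟨z, D.zR⟩ * x) = (μ : R → ℂ) x := by
    rcases central_pm μ.2 hzc (Subtype.ext D.z2) with h | h
    · exact h
    · exfalso
      have h3 := inner_scalar (f := fun r : R => ψ r) (g := (μ : R → ℂ)) (z := ⟨z, D.zR⟩) (a := 1) (b := -1)
        (fun x => by rw [one_mul]; exact hz x) (fun x => by rw [h, neg_one_mul]) hμ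
      norm_num at h3
  have huμ : ∀ x : R, (μ : R → ℂ) (⟨u, D.uR⟩ * x) = -(μ : R → ℂ) x := by
    rcases central_pm μ.2 huc (Subtype.ext D.u2) with h | h
    · exfalso
      have h3 := inner_scalar (f := fun r : R => ψ r) (g := (μ : R → ℂ)) (z := ⟨u, D.uR⟩) (a := -1) (b := 1)
        (fun x => by rw [neg_one_mul]; exact hu x) (fun x => by rw [h, one_mul]) hμ
      norm_num at h3
    · exact h
  have h1 : (μ : R → ℂ) 1 = 1 := lin_of μ.2 hzc (fun a b => by
    rcases D.comm a a.2 b b.2 with h | h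
    · exact Or.inl (Subtype.ext h)
    · exact Or.inr (Subtype.ext h)) hzμ
  obtain ⟨f, hf⟩ := Characters.Linear.exists_hom_of_isIrrCharacter μ.2 h1
  have fz : f ⟨z, D.zR⟩ = 1 := by
    apply Units.ext
    have h2 := hzμ 1
    rw [mul_one, h1, hf] at h2
    exact h2
  have fu : f ⟨u, D.uR⟩ = -1 := by
    apply Units.ext
    have h2 := huμ 1
    rw [mul_one, h1, hf] at h2
    rw [Units.val_neg, Units.val_one]
    exact h2
  have h3 := D.st f fz fu
  rw [← hf] at h3
  exact h3.trans (dvd_index hψ μ.2 h1 hμ)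

/-- **Irreducible characters with `u ↦ -1`.** -/
theorem dvd_irr (D : Dat R z u) {ψ : S → ℂ} (hψ : IsIrrCharacter S ψ) (hu : ψ u = -ψ 1) : 2 ^ 11 ∣ charDegree ψ := by
  have hu' : ∀ x, ψ (u * x) = -ψ x := by
    rcases central_pm hψ D.uc D.u2 with h | h
    · exfalso
      have h1 := h 1
      rw [mul_one, hu] at h1
      have h2 : (2 : ℂ) * ψ 1 = 0 := by linear_combination -h1
      exact isIrr_apply_one_ne_zero hψ ((mul_eq_zero.1 h2).resolve_left two_ne_zero)
    · exact h
  rcases central_pm hψ D.zc D.z2 with h | h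
  · exact dvd_plus D hψ hu' h
  · exact dvd_minus D hψ hu' h

/-- **All characters with `u ↦ -1`.** -/
theorem dvd_char (D : Dat R z u) {χ : S → ℂ} (hχ : IsCharacter S χ) (hu : χ u = -χ 1) {n : ℕ} (hn : χ 1 = n) :
    2 ^ 11 ∣ n := by
  classical
  have : Finite (IrrCharacter S) := finite_irr
  have := Fintype.ofFinite (IrrCharacter S)
  obtain ⟨m, hm⟩ := exists_nat_comb hχ
  have hval : ∀ x, χ x = ∑ ψ : IrrCharacter S, (m ψ : ℂ) * (ψ : S → ℂ) x := by
    intro x
    conv_lhs => rw [hm]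
    rw [Finset.sum_apply]
    exact Finset.sum_congr rfl fun ψ _ => by rw [Pi.smul_apply, nsmul_eq_mul]
  have hdeg : ∀ ψ : IrrCharacter S, (ψ : S → ℂ) 1 = (charDegree (ψ : S → ℂ) : ℂ) := fun ψ => deg_cast ψ.2
  -- every constituent has `u ↦ -1`
  have key : ∀ ψ : IrrCharacter S, m ψ ≠ 0 → (ψ : S → ℂ) u = -(ψ : S → ℂ) 1 := by
    have h1 : ∑ ψ : IrrCharacter S, (m ψ : ℂ) * ((ψ : S → ℂ) u + (ψ : S → ℂ) 1) = 0 := by
      have h2 := hval u
      have h3 := hval 1
      rw [hu] at h2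
      simp only [mul_add, Finset.sum_add_distrib]
      rw [← h2, ← h3]
      ring
    have h4 : ∀ ψ : IrrCharacter S, ∃ k : ℕ, (m ψ : ℂ) * ((ψ : S → ℂ) u + (ψ : S → ℂ) 1) = (k : ℂ) ∧
        (k = 0 → m ψ ≠ 0 → (ψ : S → ℂ) u = -(ψ : S → ℂ) 1) := by
      intro ψ
      rcases central_pm ψ.2 D.uc D.u2 with h | h
      · have h5 := h 1
        rw [mul_one] at h5
        refine ⟨m ψ * (2 * charDegree (ψ : S → ℂ)), ?_, fun h6 h7 => ?_⟩
        · rw [h5, hdeg]; push_cast; ring
        · exfalso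
          rcases Nat.mul_eq_zero.1 h6 with h8 | h8
          · exact h7 h8
          · have h9 : charDegree (ψ : S → ℂ) = 0 := by omega
            exact isIrr_apply_one_ne_zero ψ.2 (by rw [hdeg, h9, Nat.cast_zero])
      · have h5 := h 1
        rw [mul_one] at h5
        exact ⟨0, by rw [h5]; simp, fun _ _ => h5⟩
    choose k hk hk2 using h4
    have h5 : ∑ ψ : IrrCharacter S, (k ψ : ℂ) = 0 := by
      rw [← h1]
      exact Finset.sum_congr rfl fun ψ _ => (hk ψ).symm
    have h6 : ∑ ψ : IrrCharacter S, k ψ = 0 := by exact_mod_cast h5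
    intro ψ hψ
    exact hk2 ψ (Finset.sum_eq_zero_iff.1 h6 ψ (Finset.mem_univ ψ)) hψ
  have h7 : n = ∑ ψ : IrrCharacter S, m ψ * charDegree (ψ : S → ℂ) := by
    have h8 := hval 1
    rw [hn] at h8
    have h9 : (n : ℂ) = ((∑ ψ : IrrCharacter S, m ψ * charDegree (ψ : S → ℂ) : ℕ) : ℂ) := by
      rw [h8]
      push_cast
      exact Finset.sum_congr rfl fun ψ _ => by rw [hdeg]
    exact_mod_cast h9
  rw [h7]
  refine Finset.dvd_sum fun ψ _ => ?_
  by_cases h8 : m ψ = 0
  · rw [h8, zero_mul]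
    exact dvd_zero _
  · exact (dvd_irr D ψ.2 (key ψ h8)).mul_left _

end main

end Cfsg.Agent.H630.TwoB.Div
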